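import Mathlib.CategoryTheory.Limits.Types.Colimits
import Mathlib.CategoryTheory.Limits.Types.Limits
import Mathlib.CategoryTheory.Limits.Preserves.Basic
import Mathlib.CategoryTheory.Limits.FunctorCategory.Basic
import Mathlib.CategoryTheory.ConnectedComponents
import Mathlib.CategoryTheory.FinCategory.Basic
import Mathlib.Data.Fintype.Sigma

/-!
# Index categories in which spans complete to squares
-/

set_option autoImplicit false

open CategoryTheory Limits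

namespace GrothLib.AlmostFiltered

universe v u w

variable {I : Type u} [Category.{v} I]

/-- having a common upper bound -/
def Bd (x y : I) : Prop := ∃ z : I, Nonempty (x ⟶ z) ∧ Nonempty (y ⟶ z)

theorem bd_trans (h1 : ∀ ⦃w x y : I⦄ (a : w ⟶ x) (b : w ⟶ y), ∃ (z : I) (c : x ⟶ z) (d : y ⟶ z), a ≫ c = b ≫ d)
    {x y z : I} : Bd x y → Bd y z → Bd x z := by
  rintro ⟨p, ⟨a⟩, ⟨b⟩⟩ ⟨q, ⟨c⟩, ⟨d⟩⟩
  obtain ⟨r, e, f, -⟩ := h1 b c
  exact ⟨r, ⟨a ≫ e⟩, ⟨d ≫ f⟩⟩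

theorem bd_of_zigzag (h1 : ∀ ⦃w x y : I⦄ (a : w ⟶ x) (b : w ⟶ y), ∃ (z : I) (c : x ⟶ z) (d : y ⟶ z), a ≫ c = b ≫ d)
    {x y : I} (h : Zigzag x y) : Bd x y := by
  induction h with
  | refl => exact ⟨x, ⟨𝟙 x⟩, ⟨𝟙 x⟩⟩
  | tail _ hz ih =>
    refine bd_trans h1 ih ?_
    rcases hz with ⟨⟨f⟩⟩ | ⟨⟨f⟩⟩
    · exact ⟨_, ⟨f⟩, ⟨𝟙 _⟩⟩
    · exact ⟨_, ⟨𝟙 _⟩, ⟨f⟩⟩

theorem colimit_eq_iff {I : Type w} [SmallCategory I]
    (h1 : ∀ ⦃w x y : I⦄ (a : w ⟶ x) (b : w ⟶ y), ∃ (z : I) (c : x ⟶ z) (d : y ⟶ z), a ≫ c = b ≫ d)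
    (F : I ⥤ Type w) {i j : I} (x : F.obj i) (y : F.obj j) :
    colimit.ι F i x = colimit.ι F j y ↔ ∃ (k : I) (f : i ⟶ k) (g : j ⟶ k), F.map f x = F.map g y := by
  constructor
  · intro h
    have key : ∀ a b : Σ i, F.obj i, Relation.EqvGen F.ColimitTypeRel a b →
        ∃ (k : I) (f : a.1 ⟶ k) (g : b.1 ⟶ k), F.map f a.2 = F.map g b.2 := by
      intro a b hab
      induction hab with
      | rel a b hab =>
        obtain ⟨f, hf⟩ := hab
        exact ⟨b.1, f, 𝟙 _, by simp [hf]⟩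
      | refl a => exact ⟨a.1, 𝟙 _, 𝟙 _, rfl⟩
      | symm a b _ ih =>
        obtain ⟨k, f, g, e⟩ := ih
        exact ⟨k, g, f, e.symm⟩
      | trans a b c _ _ ih ih' =>
        obtain ⟨k, f, g, e⟩ := ih
        obtain ⟨l, f', g', e'⟩ := ih'
        obtain ⟨r, p, q, hpq⟩ := h1 g f'
        refine ⟨r, f ≫ p, g' ≫ q, ?_⟩
        simp only [Functor.map_comp, ConcreteCategory.comp_apply, e, ← e']
        rw [← ConcreteCategory.comp_apply, ← F.map_comp, hpq, F.map_comp, ConcreteCategory.comp_apply]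
    exact key ⟨i, x⟩ ⟨j, y⟩ (Types.colimit_eq h)
  · rintro ⟨k, f, g, e⟩
    rw [← colimit.w F f, ← colimit.w F g, ConcreteCategory.comp_apply, ConcreteCategory.comp_apply, e]

theorem exists_coequalize
    (h1 : ∀ ⦃w x y : I⦄ (a : w ⟶ x) (b : w ⟶ y), ∃ (z : I) (c : x ⟶ z) (d : y ⟶ z), a ≫ c = b ≫ d)
    {z : I} {ι : Type*} (s : Finset ι) (P : ι → ∀ ⦃w : I⦄, (z ⟶ w) → Prop)
    (hmono : ∀ a ⦃w w' : I⦄ (f : z ⟶ w) (g : w ⟶ w'), P a f → P a (f ≫ g))
    (h : ∀ a, ∃ (w : I) (f : z ⟶ w), P a f) : ∃ (w : I) (f : z ⟶ w), ∀ a ∈ s, P a f := by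
  classical
  induction s using Finset.induction_on with
  | empty => exact ⟨z, 𝟙 z, by simp⟩
  | insert a s _ ih =>
    obtain ⟨w, f, hf⟩ := ih
    obtain ⟨w', f', hf'⟩ := h a
    obtain ⟨r, p, q, hpq⟩ := h1 f f'
    refine ⟨r, f ≫ p, fun b hb => ?_⟩
    rcases Finset.mem_insert.1 hb with rfl | hb
    · rw [hpq]; exact hmono _ f' q hf'
    · exact hmono _ f p (hf b hb)

theorem preservesLimitsOfShape_colim {I : Type w} [SmallCategory I]
    (h1 : ∀ ⦃w x y : I⦄ (a : w ⟶ x) (b : w ⟶ y), ∃ (z : I) (c : x ⟶ z) (d : y ⟶ z), a ≫ c = b ≫ d)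
    (h2 : ∀ ⦃x y : I⦄ (a b : x ⟶ y), ∃ (z : I) (c : y ⟶ z), a ≫ c = b ≫ c)
    (J : Type) [SmallCategory J] [FinCategory J] [IsConnected J] :
    PreservesLimitsOfShape J (colim : (I ⥤ Type w) ⥤ Type w) := by
  classical
  refine ⟨fun {G} => ⟨fun {c} hc => (Types.isLimit_iff _).2 fun s hs => ?_⟩⟩
  have hev : ∀ z : I, ∀ t ∈ (G ⋙ (evaluation I (Type w)).obj z).sections,
      ∃! x : c.pt.obj z, ∀ j, (c.π.app j).app z x = t j := fun z t ht =>
    (Types.isLimit_iff (((evaluation I (Type w)).obj z).mapCone c)).1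
      ⟨isLimitOfPreserves _ hc⟩ t ht
  have hι : ∀ (j : J) (z : I) (x : c.pt.obj z),
      colimMap (c.π.app j) (colimit.ι c.pt z x) = colimit.ι (G.obj j) z ((c.π.app j).app z x) :=
    fun j z x => ConcreteCategory.congr_hom (ι_colimMap (c.π.app j) z) x
  have hnat : ∀ (j : J) {z w : I} (f : z ⟶ w) (x : c.pt.obj z),
      (c.π.app j).app w (c.pt.map f x) = (G.obj j).map f ((c.π.app j).app z x) :=
    fun j z w f x => NatTrans.naturality_apply (c.π.app j) f x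
  choose i a ha using fun j => Types.jointly_surjective' (s j)
  have hbd : ∀ j k, Bd (i j) (i k) := by
    intro j k
    have := constant_of_preserves_morphisms (fun j => {x | Bd (i j) x}) ?_ j k
    · exact (Set.ext_iff.1 this (i k)).2 ⟨i k, ⟨𝟙 _⟩, ⟨𝟙 _⟩⟩
    intro j₁ j₂ f
    have e : colimit.ι (G.obj j₂) (i j₁) ((G.map f).app (i j₁) (a j₁)) = colimit.ι (G.obj j₂) (i j₂) (a j₂) := by
      rw [ha j₂, ← hs f, ← ha j₁]
      exact (ConcreteCategory.congr_hom (ι_colimMap (G.map f) (i j₁)) (a j₁)).symm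
    obtain ⟨k', f', g', -⟩ := (colimit_eq_iff h1 _ _ _).1 e
    have h12 : Bd (i j₁) (i j₂) := ⟨k', ⟨f'⟩, ⟨g'⟩⟩
    have h21 : Bd (i j₂) (i j₁) := ⟨k', ⟨g'⟩, ⟨f'⟩⟩
    ext x
    exact ⟨bd_trans h1 h21, bd_trans h1 h12⟩
  obtain ⟨j₀⟩ := (inferInstance : Nonempty J)
  obtain ⟨z, u, hu⟩ := exists_coequalize (ι := J) h1 (z := i j₀) Finset.univ
    (fun j w f => Nonempty (i j ⟶ w)) (fun j w w' f g hf => hf.map (· ≫ g))
    (fun j => by obtain ⟨w, ⟨p⟩, hq⟩ := hbd j₀ j; exact ⟨w, p, hq⟩)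
  let e : ∀ j, i j ⟶ z := fun j => (hu j (Finset.mem_univ j)).some
  let a' : ∀ j, (G.obj j).obj z := fun j => (G.obj j).map (e j) (a j)
  have ha' : ∀ j, colimit.ι (G.obj j) z (a' j) = s j := fun j => by
    rw [← ha j]; exact ConcreteCategory.congr_hom (colimit.w (G.obj j) (e j)) (a j)
  obtain ⟨z', v, hv⟩ := exists_coequalize (ι := Σ (j k : J), (j ⟶ k)) h1 (z := z) Finset.univ
    (fun b w f => (G.map b.2.2).app w ((G.obj b.1).map f (a' b.1)) = (G.obj b.2.1).map f (a' b.2.1))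
    (fun b w w' f g hf => by
      simp only [Functor.map_comp, ConcreteCategory.comp_apply]
      rw [NatTrans.naturality_apply, hf])
    (fun b => by
      have e : colimit.ι (G.obj b.2.1) z ((G.map b.2.2).app z (a' b.1)) =
          colimit.ι (G.obj b.2.1) z (a' b.2.1) := by
        rw [ha', ← hs b.2.2, ← ha']
        exact (ConcreteCategory.congr_hom (ι_colimMap (G.map b.2.2) z) (a' b.1)).symm
      obtain ⟨k, f, g, hfg⟩ := (colimit_eq_iff h1 _ _ _).1 e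
      obtain ⟨l, m, hm⟩ := h2 f g
      refine ⟨l, f ≫ m, ?_⟩
      rw [NatTrans.naturality_apply]
      simp only [Functor.map_comp, ConcreteCategory.comp_apply] at hfg ⊢
      rw [hfg, ← ConcreteCategory.comp_apply, ← Functor.map_comp, ← hm, Functor.map_comp,
        ConcreteCategory.comp_apply])
  obtain ⟨x, hx, -⟩ := hev z' (fun j => (G.obj j).map v (a' j))
    (fun {j k} f => hv ⟨j, k, f⟩ (Finset.mem_univ _))
  refine ⟨colimit.ι c.pt z' x, fun j => ?_, fun y hy => ?_⟩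
  · change colimMap (c.π.app j) (colimit.ι c.pt z' x) = s j
    rw [hι, hx, ← ha' j]
    exact ConcreteCategory.congr_hom (colimit.w (G.obj j) v) (a' j)
  · obtain ⟨k, y₀, rfl⟩ := Types.jointly_surjective' y
    have hj : ∀ j, ∃ (r : I) (p : k ⟶ r) (q : z' ⟶ r),
        (G.obj j).map p ((c.π.app j).app k y₀) = (G.obj j).map q ((c.π.app j).app z' x) := fun j => by
      refine (colimit_eq_iff h1 _ _ _).1 ?_
      have h' : colimMap (c.π.app j) (colimit.ι c.pt k y₀) = s j := hy j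
      rw [hι] at h'
      rw [h', hx, ← ha' j]
      exact (ConcreteCategory.congr_hom (colimit.w (G.obj j) v) (a' j)).symm
    obtain ⟨r, p, q, -⟩ := hj j₀
    obtain ⟨r', t, ht⟩ := exists_coequalize (ι := J) h1 (z := r) Finset.univ
      (fun j w f => (c.π.app j).app w (c.pt.map (p ≫ f) y₀) = (c.π.app j).app w (c.pt.map (q ≫ f) x))
      (fun j w w' f g hf => by
        simp only [Functor.map_comp, ConcreteCategory.comp_apply] at hf ⊢
        rw [hnat, hf, ← hnat])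
      (fun j => by
        obtain ⟨r₁, p₁, q₁, e₁⟩ := hj j
        obtain ⟨r₂, m, n, hmn⟩ := h1 p p₁
        obtain ⟨r₃, o, ho⟩ := h2 (q ≫ m) (q₁ ≫ n)
        refine ⟨r₃, m ≫ o, ?_⟩
        have hp : p ≫ m ≫ o = p₁ ≫ n ≫ o := by rw [reassoc_of% hmn]
        have hq : q ≫ m ≫ o = q₁ ≫ n ≫ o := by simpa using ho
        rw [hp, hq, hnat, hnat, Functor.map_comp, ConcreteCategory.comp_apply, Functor.map_comp,
          ConcreteCategory.comp_apply, Functor.map_comp, ConcreteCategory.comp_apply, e₁]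
        simp only [Functor.map_comp, ConcreteCategory.comp_apply])
    refine (colimit_eq_iff h1 _ _ _).2 ⟨r', p ≫ t, q ≫ t, ?_⟩
    obtain ⟨x', -, hx'⟩ := hev r' (fun j => (c.π.app j).app r' (c.pt.map (q ≫ t) x))
      (fun {j k} f => (ConcreteCategory.congr_hom (NatTrans.congr_app (c.w f) r') _))
    exact (hx' _ (fun j => ht j (Finset.mem_univ j))).trans (hx' _ (fun j => rfl)).symm

end GrothLib.AlmostFiltered
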