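import Mathlib.CategoryTheory.FinCategory.Basic
import Mathlib.CategoryTheory.IsConnected
import Mathlib.Data.Fintype.Sigma
import Mathlib.CategoryTheory.Limits.Shapes.Equalizers
import Mathlib.CategoryTheory.Limits.Shapes.Pullback.HasPullback
import Mathlib.CategoryTheory.Limits.Shapes.BinaryProducts

/-!
# Finite limits built vertex by vertex and arrow by arrow
-/

set_option autoImplicit false

open CategoryTheory Limits

namespace GrothLib.FinLim

universe v u

variable {C : Type u} [Category.{v} C] {J : Type} [SmallCategory J] (F : J ⥤ C)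

/-- arrows of `J` -/
abbrev Arr (J : Type) [SmallCategory J] : Type := Σ (j k : J), (j ⟶ k)

/-- compatibility of a family on `S` with the arrows in `R` -/
def Compat (S : J → Prop) (R : Arr J → Prop) {W : C} (x : ∀ j, S j → (W ⟶ F.obj j)) : Prop :=
  ∀ a : Arr J, R a → ∀ (h₁ : S a.1) (h₂ : S a.2.1), x a.1 h₁ ≫ F.map a.2.2 = x a.2.1 h₂

/-- existence of a universal compatible family -/
def Has (S : J → Prop) (R : Arr J → Prop) : Prop :=
  ∃ (P : C) (p : ∀ j, S j → (P ⟶ F.obj j)), Compat F S R p ∧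
    ∀ (W : C) (x : ∀ j, S j → (W ⟶ F.obj j)), Compat F S R x → ∃! d : W ⟶ P, ∀ j h, d ≫ p j h = x j h

variable [HasEqualizers C]

theorem has_insert_arrow {S : J → Prop} {R : Arr J → Prop} (a : Arr J) (h : Has F S R) :
    Has F S (fun b => b = a ∨ R b) := by
  obtain ⟨P, p, hp, hu⟩ := h
  by_cases hS : S a.1 ∧ S a.2.1
  · obtain ⟨h₁, h₂⟩ := hS
    let e := equalizer.ι (p a.1 h₁ ≫ F.map a.2.2) (p a.2.1 h₂)
    refine ⟨equalizer (p a.1 h₁ ≫ F.map a.2.2) (p a.2.1 h₂), fun j h => e ≫ p j h, ?_, fun W x hx => ?_⟩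
    · rintro b (rfl | hb) k₁ k₂
      · simpa [e] using equalizer.condition (p b.1 h₁ ≫ F.map b.2.2) (p b.2.1 h₂)
      · simp [hp b hb k₁ k₂]
    · obtain ⟨d, hd, hd'⟩ := hu W x (fun b hb => hx b (Or.inr hb))
      have hw : d ≫ p a.1 h₁ ≫ F.map a.2.2 = d ≫ p a.2.1 h₂ := by
        rw [← Category.assoc, hd, hd]; exact hx a (Or.inl rfl) h₁ h₂
      refine ⟨equalizer.lift d hw, fun j h => by rw [equalizer.lift_ι_assoc, hd], fun d' hd'' => ?_⟩
      ext
      rw [equalizer.lift_ι]
      exact hd' _ fun j h => by rw [Category.assoc]; exact hd'' j h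
  · refine ⟨P, p, ?_, fun W x hx => hu W x (fun b hb => hx b (Or.inr hb))⟩
    rintro b (rfl | hb) k₁ k₂
    · exact absurd ⟨k₁, k₂⟩ hS
    · exact hp b hb k₁ k₂

theorem has_all [FinCategory J] {S : J → Prop} {R : Arr J → Prop} (h : Has F S R) :
    Has F S (fun _ => True) := by
  classical
  haveI : Fintype (Arr J) := inferInstanceAs (Fintype (Σ (j k : J), (j ⟶ k)))
  suffices ∀ L : Finset (Arr J), Has F S (fun b => b ∈ L ∨ R b) by
    obtain ⟨P, p, hp, hu⟩ := this Finset.univ
    exact ⟨P, p, fun b _ => hp b (Or.inl (Finset.mem_univ b)), fun W x hx => hu W x (fun b _ => hx b trivial)⟩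
  intro L
  induction L using Finset.induction_on with
  | empty => simpa using h
  | insert a L _ ih =>
    simpa [Finset.mem_insert, or_assoc] using has_insert_arrow F a ih

omit [HasEqualizers C] in
theorem has_singleton (j₀ : J) :
    Has F (fun j => j = j₀) (fun _ => False) := by
  refine ⟨F.obj j₀, fun j h => eqToHom (by rw [h]), fun a ha => ha.elim, fun W x _ => ?_⟩
  refine ⟨x j₀ rfl, fun j h => by subst h; simp, fun d hd => by simpa using hd j₀ rfl⟩

omit [HasEqualizers C] in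
theorem has_add_product [HasBinaryProducts C] {S : J → Prop} (k : J) (hk : ¬ S k)
    (h : Has F S (fun _ => True)) :
    Has F (fun j => j = k ∨ S j) (fun a => S a.1 ∧ S a.2.1) := by
  classical
  obtain ⟨P, p, hp, hu⟩ := h
  refine ⟨P ⨯ F.obj k, fun j h => if e : j = k then Limits.prod.snd ≫ eqToHom (by rw [e]) else
    Limits.prod.fst ≫ p j (h.resolve_left e), fun a ha h₁ h₂ => ?_, fun W x hx => ?_⟩
  · have e₁ : a.1 ≠ k := fun e => hk (e ▸ ha.1)
    have e₂ : a.2.1 ≠ k := fun e => hk (e ▸ ha.2)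
    simp [e₁, e₂, hp a trivial ha.1 ha.2]
  · obtain ⟨d, hd, hd'⟩ := hu W (fun j h => x j (Or.inr h)) (fun a _ h₁ h₂ => hx a ⟨h₁, h₂⟩ _ _)
    refine ⟨prod.lift d (x k (Or.inl rfl)), fun j h => ?_, fun d' hd'' => ?_⟩
    · by_cases e : j = k
      · subst e; simp [prod.lift_snd]
      · simp [e, prod.lift_fst_assoc, hd]
    · ext
      · rw [prod.lift_fst]
        refine hd' _ fun j h => ?_
        have e : j ≠ k := fun e => hk (e ▸ h)
        simpa [e] using hd'' j (Or.inr h)
      · simpa [prod.lift_snd] using hd'' k (Or.inl rfl)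

omit [HasEqualizers C] in
theorem has_add_vertex [HasPullbacks C] {S : J → Prop} (k : J) (hk : ¬ S k) {j : J} (hj : S j)
    (f : (j ⟶ k) ⊕ (k ⟶ j)) (h : Has F S (fun _ => True)) :
    ∃ R : Arr J → Prop, Has F (fun i => i = k ∨ S i) R := by
  classical
  obtain ⟨P, p, hp, hu⟩ := h
  rcases f with f | f
  · refine ⟨fun a => (S a.1 ∧ S a.2.1) ∨ a = ⟨j, k, f⟩, P, fun i h => if e : i = k then
      p j hj ≫ F.map f ≫ eqToHom (by rw [e]) else p i (h.resolve_left e), ?_, fun W x hx => ?_⟩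
    · rintro a (ha | rfl) h₁ h₂
      · have e₁ : a.1 ≠ k := fun e => hk (e ▸ ha.1)
        have e₂ : a.2.1 ≠ k := fun e => hk (e ▸ ha.2)
        simp [e₁, e₂, hp a trivial ha.1 ha.2]
      · have e₁ : j ≠ k := fun e => hk (e ▸ hj)
        simp [e₁]
    · obtain ⟨d, hd, hd'⟩ := hu W (fun j h => x j (Or.inr h)) (fun a _ h₁ h₂ => hx a (Or.inl ⟨h₁, h₂⟩) _ _)
      refine ⟨d, fun i h => ?_, fun d' hd'' => hd' _ fun i h => ?_⟩
      · by_cases e : i = k
        · subst e; simp [reassoc_of% hd]; exact hx ⟨j, i, f⟩ (Or.inr rfl) (Or.inr hj) _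
        · simp [e, hd]
      · have e : i ≠ k := fun e => hk (e ▸ h)
        simpa [e] using hd'' i (Or.inr h)
  · refine ⟨fun a => (S a.1 ∧ S a.2.1) ∨ a = ⟨k, j, f⟩, pullback (F.map f) (p j hj), fun i h => if e : i = k then
      pullback.fst _ _ ≫ eqToHom (by rw [e]) else pullback.snd _ _ ≫ p i (h.resolve_left e), ?_, fun W x hx => ?_⟩
    · rintro a (ha | rfl) h₁ h₂
      · have e₁ : a.1 ≠ k := fun e => hk (e ▸ ha.1)
        have e₂ : a.2.1 ≠ k := fun e => hk (e ▸ ha.2)
        simp [e₁, e₂, hp a trivial ha.1 ha.2]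
      · have e₁ : j ≠ k := fun e => hk (e ▸ hj)
        simp [e₁, pullback.condition]
    · obtain ⟨d, hd, hd'⟩ := hu W (fun j h => x j (Or.inr h)) (fun a _ h₁ h₂ => hx a (Or.inl ⟨h₁, h₂⟩) _ _)
      have hw : x k (Or.inl rfl) ≫ F.map f = d ≫ p j hj := by
        rw [hd]; exact hx ⟨k, j, f⟩ (Or.inr rfl) _ _
      refine ⟨pullback.lift (x k (Or.inl rfl)) d hw, fun i h => ?_, fun d' hd'' => pullback.hom_ext ?_ ?_⟩
      · by_cases e : i = k
        · subst e; simp [pullback.lift_fst]
        · simp [e, pullback.lift_snd_assoc, hd]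
      · simpa [pullback.lift_fst] using hd'' k (Or.inl rfl)
      · rw [pullback.lift_snd]
        refine hd' _ fun i h => ?_
        have e : i ≠ k := fun e => hk (e ▸ h)
        simpa [e] using hd'' i (Or.inr h)

theorem hasLimit_of_has (h : Has F (fun _ => True) (fun _ => True)) : HasLimit F := by
  obtain ⟨P, p, hp, hu⟩ := h
  let c : Cone F :=
    { pt := P
      π := { app := fun j => p j trivial
             naturality := fun j k f => by
               simpa using (hp ⟨j, k, f⟩ trivial trivial trivial).symm } }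
  have hc : ∀ s : Cone F, ∃! d : s.pt ⟶ c.pt, ∀ j h, d ≫ p j h = s.π.app j :=
    fun s => hu _ (fun j _ => s.π.app j) fun a _ _ _ => s.w a.2.2
  exact ⟨⟨⟨c,
    { lift := fun s => (hc s).choose
      fac := fun s j => (hc s).choose_spec.1 j trivial
      uniq := fun s m hm => (hc s).choose_spec.2 m fun j _ => hm j }⟩⟩⟩

theorem hasLimit_of_step [FinCategory J] (j₀ : J)
    (step : ∀ S : J → Prop, S j₀ → (∃ j, ¬ S j) → Has F S (fun _ => True) →
      ∃ (k : J) (R : Arr J → Prop), ¬ S k ∧ Has F (fun i => i = k ∨ S i) R) : HasLimit F := by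
  classical
  suffices ∀ n : ℕ, ∀ S : Finset J, j₀ ∈ S → Fintype.card J - S.card ≤ n →
      Has F (· ∈ S) (fun _ => True) → Has F (fun _ => True) (fun _ => True) by
    refine hasLimit_of_has F (this _ {j₀} (by simp) le_rfl ?_)
    simpa using has_all F (has_singleton F j₀)
  intro n
  induction n with
  | zero =>
    intro S _ hn h
    obtain rfl : S = Finset.univ := Finset.eq_univ_of_card S
      (le_antisymm (Finset.card_le_univ S) (by omega))
    simpa using h
  | succ n ih =>
    intro S h₀ hn h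
    by_cases hS : ∃ j, j ∉ S
    · obtain ⟨k, R, hk, hR⟩ := step _ h₀ hS h
      refine ih (insert k S) (Finset.mem_insert_of_mem h₀) ?_ ?_
      · rw [Finset.card_insert_of_notMem hk]; omega
      · simpa [Finset.mem_insert] using has_all F hR
    · obtain rfl : S = Finset.univ := Finset.eq_univ_iff_forall.2 (not_exists_not.1 hS)
      simpa using h

theorem hasLimitsOfShape_connected [HasPullbacks C] [FinCategory J] [IsConnected J] :
    HasLimitsOfShape J C := by
  refine ⟨fun F => ?_⟩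
  obtain ⟨j₀⟩ := (inferInstance : Nonempty J)
  refine hasLimit_of_step F j₀ fun S h₀ hne h => ?_
  obtain ⟨i, hi⟩ := hne
  by_contra hno
  refine hi (induct_on_objects {j | S j} h₀ (fun {j₁ j₂} f => ⟨fun h₁ => ?_, fun h₂ => ?_⟩) i)
  · by_contra h₂
    obtain ⟨R, hR⟩ := has_add_vertex F j₂ h₂ h₁ (Sum.inl f) h
    exact hno ⟨j₂, R, h₂, hR⟩
  · by_contra h₁
    obtain ⟨R, hR⟩ := has_add_vertex F j₁ h₁ h₂ (Sum.inr f) h
    exact hno ⟨j₁, R, h₁, hR⟩

theorem hasLimitsOfShape_nonempty [HasBinaryProducts C] [FinCategory J] [Nonempty J] :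
    HasLimitsOfShape J C := by
  refine ⟨fun F => ?_⟩
  obtain ⟨j₀⟩ := (inferInstance : Nonempty J)
  refine hasLimit_of_step F j₀ fun S _ ⟨k, hk⟩ h => ?_
  exact ⟨k, _, hk, has_add_product F k hk h⟩

end GrothLib.FinLim
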