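import Mathlib.CategoryTheory.Localization.CalculusOfFractions
import Mathlib.CategoryTheory.Limits.Preserves.Finite
import Mathlib.CategoryTheory.FinCategory.Basic
import Mathlib.Data.Fintype.Sigma

/-!
# Finite families in a calculus of left fractions
-/

set_option autoImplicit false

open CategoryTheory Limits

namespace GrothLib.Fractions

universe v u v' u'

variable {C : Type u} [Category.{v} C] {D : Type u'} [Category.{v'} D] (W : MorphismProperty C)
  (L : C ⥤ D) [L.IsLocalization W] [W.HasLeftCalculusOfFractions]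

theorem exists_denominator {ι : Type*} (S : Finset ι) (X : ι → C) (Y : C) (g : ∀ i, L.obj (X i) ⟶ L.obj Y) :
    ∃ (Y' : C) (s : Y ⟶ Y') (_ : W s), ∀ i ∈ S, ∃ f : X i ⟶ Y', g i ≫ L.map s = L.map f := by
  classical
  induction S using Finset.induction_on with
  | empty => exact ⟨Y, 𝟙 Y, W.id_mem Y, by simp⟩
  | insert a S _ ih =>
    obtain ⟨Y₁, s, hs, hf⟩ := ih
    obtain ⟨φ, hφ⟩ := Localization.exists_leftFraction L W (g a)
    obtain ⟨ψ, hψ⟩ := (MorphismProperty.RightFraction.mk s hs φ.s).exists_leftFraction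
    dsimp at hψ
    refine ⟨ψ.Y', φ.s ≫ ψ.s, W.comp_mem _ _ φ.hs ψ.hs, fun i hi => ?_⟩
    rcases Finset.mem_insert.1 hi with rfl | hi
    · refine ⟨φ.f ≫ ψ.s, ?_⟩
      rw [hφ, L.map_comp, L.map_comp, φ.map_comp_map_s_assoc]
    · obtain ⟨f, hf'⟩ := hf i hi
      refine ⟨f ≫ ψ.f, ?_⟩
      rw [hψ, L.map_comp, L.map_comp, reassoc_of% hf']

theorem exists_equalize {ι : Type*} (S : Finset ι) (X : ι → C) (Y : C) (f₁ f₂ : ∀ i, X i ⟶ Y)
    (h : ∀ i, L.map (f₁ i) = L.map (f₂ i)) :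
    ∃ (Y' : C) (t : Y ⟶ Y') (_ : W t), ∀ i ∈ S, f₁ i ≫ t = f₂ i ≫ t := by
  classical
  induction S using Finset.induction_on with
  | empty => exact ⟨Y, 𝟙 Y, W.id_mem Y, by simp⟩
  | insert a S _ ih =>
    obtain ⟨Y₁, t, ht, hS⟩ := ih
    obtain ⟨Y₂, t', ht', he⟩ := (MorphismProperty.map_eq_iff_postcomp L W (f₁ a ≫ t) (f₂ a ≫ t)).1
      (by rw [L.map_comp, L.map_comp, h a])
    refine ⟨Y₂, t ≫ t', W.comp_mem _ _ ht ht', fun i hi => ?_⟩
    rcases Finset.mem_insert.1 hi with rfl | hi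
    · simpa using he
    · rw [← Category.assoc, hS i hi, Category.assoc]

include W in
theorem preservesFiniteColimits : PreservesFiniteColimits L := by
  refine ⟨fun J _ _ => ⟨fun {K} => ⟨fun {c} hc => ?_⟩⟩⟩
  haveI : L.EssSurj := Localization.essSurj L W
  haveI : Fintype (Σ (j k : J), (j ⟶ k)) := inferInstance
  have key : ∀ s : Cocone (K ⋙ L), ∃! d : L.obj c.pt ⟶ s.pt, ∀ j, L.map (c.ι.app j) ≫ d = s.ι.app j := by
    intro s
    let e := L.objObjPreimageIso s.pt
    obtain ⟨Y', t, ht, hf⟩ := exists_denominator W L Finset.univ K.obj (L.objPreimage s.pt)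
      (fun j => s.ι.app j ≫ e.inv)
    choose f hf using fun j => hf j (Finset.mem_univ j)
    obtain ⟨Y'', t', ht', heq⟩ := exists_equalize W L (Finset.univ : Finset (Σ (j k : J), (j ⟶ k)))
      (fun a => K.obj a.1) Y' (fun a => K.map a.2.2 ≫ f a.2.1) (fun a => f a.1) (fun a => by
        have h : L.map (K.map a.2.2) ≫ s.ι.app a.2.1 = s.ι.app a.1 := s.w a.2.2
        rw [L.map_comp, ← hf, ← hf]
        simp only [Category.assoc]
        rw [reassoc_of% h])
    let cc : Cocone K :=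
      { pt := Y''
        ι := { app := fun j => f j ≫ t'
               naturality := fun j k a => by simpa using heq ⟨j, k, a⟩ (Finset.mem_univ _) } }
    haveI : IsIso (L.map (t ≫ t')) := Localization.inverts L W _ (W.comp_mem _ _ ht ht')
    refine ⟨L.map (hc.desc cc) ≫ inv (L.map (t ≫ t')) ≫ e.hom, fun j => ?_, fun d hd => ?_⟩
    · rw [← Category.assoc, ← L.map_comp, hc.fac]
      change L.map (f j ≫ t') ≫ _ = _
      have h2 : L.map (f j ≫ t') = (s.ι.app j ≫ e.inv) ≫ L.map (t ≫ t') := by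
        simp only [L.map_comp, ← hf, Category.assoc]
      rw [h2]; simp
    · obtain ⟨φ, hφ⟩ := Localization.exists_leftFraction L W (d ≫ e.inv ≫ L.map (t ≫ t'))
      haveI : IsIso (L.map φ.s) := Localization.inverts L W _ φ.hs
      have h3 : (d ≫ e.inv ≫ L.map (t ≫ t')) ≫ L.map φ.s = L.map φ.f := by
        rw [hφ]; exact φ.map_comp_map_s L (Localization.inverts L W)
      obtain ⟨Z, u, hu, hu'⟩ := exists_equalize W L (Finset.univ : Finset J) K.obj φ.Y'
        (fun j => c.ι.app j ≫ φ.f) (fun j => (f j ≫ t') ≫ φ.s) (fun j => by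
          simp only [L.map_comp, ← h3, ← hf, Category.assoc]
          rw [reassoc_of% (hd j)])
      have h4 : φ.f ≫ u = hc.desc cc ≫ φ.s ≫ u := hc.hom_ext fun j => by
        rw [hc.fac_assoc]
        simpa [cc] using hu' j (Finset.mem_univ j)
      haveI : IsIso (L.map u) := Localization.inverts L W _ hu
      rw [← cancel_mono e.inv, ← cancel_mono (L.map (t ≫ t')), ← cancel_mono (L.map φ.s),
        ← cancel_mono (L.map u)]
      simp only [Category.assoc] at h3 ⊢
      rw [reassoc_of% h3]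
      simp only [← L.map_comp, h4]
      simp only [L.map_comp]
      rw [Iso.hom_inv_id_assoc, IsIso.inv_hom_id_assoc]
  exact ⟨{ desc := fun s => (key s).choose
           fac := fun s j => (key s).choose_spec.1 j
           uniq := fun s d hd => (key s).choose_spec.2 d hd }⟩

theorem exists_square {X Y X' Y' : C} (f : X ⟶ Y) (f' : X' ⟶ Y') (a : L.obj X ⟶ L.obj X')
    (b : L.obj Y ⟶ L.obj Y') (w : L.map f ≫ b = a ≫ L.map f') :
    ∃ (X'' Y'' : C) (f'' : X'' ⟶ Y'') (g : X ⟶ X'') (h : Y ⟶ Y'') (s : X' ⟶ X'') (t : Y' ⟶ Y''),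
      W s ∧ W t ∧ f ≫ h = g ≫ f'' ∧ f' ≫ t = s ≫ f'' ∧ L.map g = a ≫ L.map s ∧ L.map h = b ≫ L.map t := by
  obtain ⟨α, hα⟩ := Localization.exists_leftFraction L W a
  obtain ⟨β, hβ⟩ := Localization.exists_leftFraction L W b
  have ha : a ≫ L.map α.s = L.map α.f := by rw [hα]; exact α.map_comp_map_s L _
  have hb : b ≫ L.map β.s = L.map β.f := by rw [hβ]; exact β.map_comp_map_s L _
  obtain ⟨ψ, hψ⟩ := (MorphismProperty.RightFraction.mk α.s α.hs (f' ≫ β.s)).exists_leftFraction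
  simp only [Category.assoc] at hψ
  obtain ⟨Z, u, hu, he⟩ := (MorphismProperty.map_eq_iff_postcomp L W (f ≫ β.f ≫ ψ.s) (α.f ≫ ψ.f)).1 (by
    simp only [L.map_comp, ← ha, ← hb, Category.assoc]
    rw [reassoc_of% w, ← L.map_comp, ← L.map_comp, ← L.map_comp, hψ, L.map_comp])
  refine ⟨α.Y', Z, ψ.f ≫ u, α.f, β.f ≫ ψ.s ≫ u, α.s, β.s ≫ ψ.s ≫ u, α.hs,
    W.comp_mem _ _ β.hs (W.comp_mem _ _ ψ.hs hu), ?_, ?_, ha.symm, ?_⟩
  · simpa using he
  · rw [reassoc_of% hψ]
  · simp only [L.map_comp]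
    rw [reassoc_of% hb]

theorem isIso_map_iff [W.HasRightCalculusOfFractions] {X Y : C} (f : X ⟶ Y) :
    IsIso (L.map f) ↔ ∃ (Z Z' : C) (g : Y ⟶ Z) (h : Z' ⟶ X), W (f ≫ g) ∧ W (h ≫ f) := by
  constructor
  · intro _
    obtain ⟨φ, hφ⟩ := Localization.exists_leftFraction L W (inv (L.map f))
    have h1 : inv (L.map f) ≫ L.map φ.s = L.map φ.f := by rw [hφ]; exact φ.map_comp_map_s L _
    obtain ⟨Z, t, ht, he⟩ := (MorphismProperty.map_eq_iff_postcomp L W (f ≫ φ.f) φ.s).1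
      (by rw [L.map_comp, ← h1, IsIso.hom_inv_id_assoc])
    obtain ⟨ψ, hψ⟩ := Localization.exists_rightFraction L W (inv (L.map f))
    have h2 : L.map ψ.s ≫ inv (L.map f) = L.map ψ.f := by rw [hψ]; exact ψ.map_s_comp_map L _
    obtain ⟨Z', t', ht', he'⟩ := (MorphismProperty.map_eq_iff_precomp L W (ψ.f ≫ f) ψ.s).1
      (by rw [L.map_comp, ← h2, Category.assoc, IsIso.inv_hom_id, Category.comp_id])
    refine ⟨Z, Z', φ.f ≫ t, t' ≫ ψ.f, ?_, ?_⟩
    · rw [← Category.assoc, he]; exact W.comp_mem _ _ φ.hs ht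
    · rw [Category.assoc, he']; exact W.comp_mem _ _ ht' ψ.hs
  · rintro ⟨Z, Z', g, h, hg, hh⟩
    haveI h1 : IsIso (L.map (f ≫ g)) := Localization.inverts L W _ hg
    haveI h2 : IsIso (L.map (h ≫ f)) := Localization.inverts L W _ hh
    rw [L.map_comp] at h1 h2
    haveI : IsSplitMono (L.map f) := IsSplitMono.mk' ⟨L.map g ≫ inv (L.map f ≫ L.map g), by
      rw [← Category.assoc, IsIso.hom_inv_id]⟩
    haveI : Epi (L.map f) := epi_of_epi (L.map h) (L.map f)
    exact isIso_of_epi_of_isSplitMono (L.map f)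

end GrothLib.Fractions
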